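import Groth.Agent.EssConst.Basic
import Groth.Agent.CohDerRoofs.Trunc
import Mathlib.Algebra.Homology.DerivedCategory.FullyFaithful
import Mathlib.CategoryTheory.Triangulated.TStructure.TruncLTGE

/-!
# Inverse systems in the derived category with uniformly bounded cohomology

Pro-isomorphisms and essential constancy are detected on cohomology.
-/

set_option backward.isDefEq.respectTransparency false
set_option backward.isDefEq.respectTransparency.types false
set_option linter.style.haveILetI false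
set_option autoImplicit false

universe w v u

open CategoryTheory Limits Pretriangulated Opposite ZeroObject
open ARSys (PS tr)
open Groth.Agent.ARLib (tr_tr tr_tr_assoc tr_nat tr_nat_assoc)
open DerivedCategory.TStructure (t)

namespace Groth.Agent.EssConstD

variable {A : Type u} [Category.{v} A] [Abelian A] [HasDerivedCategory.{w} A]

local notation "Hd" => DerivedCategory.homologyFunctor A

/-- A composable pair with outer terms zero has zero middle term. -/
theorem isZero_middle {S : ShortComplex A} (hS : S.Exact) (h₁ : IsZero S.X₁) (h₃ : IsZero S.X₃) :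
    IsZero S.X₂ :=
  hS.isZero_of_both_zeros (h₁.eq_of_src _ _) (h₃.eq_of_tgt _ _)

theorem isZero_third (T : Triangle (DerivedCategory A)) (hT : T ∈ Pretriangulated.distinguishedTriangles)
    (i : ℤ) (h₂ : IsZero ((Hd i).obj T.obj₂)) (h₁ : IsZero ((Hd (i + 1)).obj T.obj₁)) :
    IsZero ((Hd i).obj T.obj₃) :=
  isZero_middle (DerivedCategory.HomologySequence.exact₃ T hT i (i + 1)) h₂ h₁

/-- Homology of the truncations. -/
theorem isIso_map_truncLTι (X : DerivedCategory A) (n i : ℤ) (hi : i < n) :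
    IsIso ((Hd i).map ((t.truncLTι n).app X)) := by
  have hT := t.triangleLTGE_distinguished n X
  have z : ∀ k, k < n → IsZero ((Hd k).obj ((t.truncGE n).obj X)) := fun k hk =>
    DerivedCategory.isZero_of_isGE _ n k hk
  haveI : Mono ((Hd i).map ((t.truncLTι n).app X)) :=
    (DerivedCategory.HomologySequence.mono_homologyMap_mor₁_iff _ hT (i - 1) i).2
      ((z (i - 1) (by lia)).eq_of_src _ _)
  haveI : Epi ((Hd i).map ((t.truncLTι n).app X)) :=
    (DerivedCategory.HomologySequence.epi_homologyMap_mor₁_iff _ hT i).2 ((z i hi).eq_of_tgt _ _)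
  exact isIso_of_mono_of_epi _

theorem isIso_map_truncGEπ (X : DerivedCategory A) (n i : ℤ) (hi : n ≤ i) :
    IsIso ((Hd i).map ((t.truncGEπ n).app X)) := by
  have hT := t.triangleLTGE_distinguished n X
  have z : ∀ k, n ≤ k → IsZero ((Hd k).obj ((t.truncLT n).obj X)) := fun k hk =>
    DerivedCategory.isZero_of_isLE _ (n - 1) k (by lia)
  haveI : Mono ((Hd i).map ((t.truncGEπ n).app X)) :=
    (DerivedCategory.HomologySequence.mono_homologyMap_mor₂_iff _ hT i).2 ((z i hi).eq_of_src _ _)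
  haveI : Epi ((Hd i).map ((t.truncGEπ n).app X)) :=
    (DerivedCategory.HomologySequence.epi_homologyMap_mor₂_iff _ hT i (i + 1)).2
      ((z (i + 1) (by lia)).eq_of_tgt _ _)
  exact isIso_of_mono_of_epi _

/-- Morphisms between objects concentrated in one degree. -/
theorem bijective_map {X Y : DerivedCategory A} (m : ℤ) [X.IsLE m] [X.IsGE m] [Y.IsLE m] [Y.IsGE m] :
    Function.Bijective (fun f : X ⟶ Y => (Hd m).map f) := by
  constructor
  · intro f g hfg
    replace hfg : (Hd m).map f = (Hd m).map g := hfg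
    refine sub_eq_zero.1 (CohDerRoofs.eq_zero_of_homology_eq_zero m _ ?_)
    rw [Functor.map_sub, hfg, sub_self]
  · intro φ
    obtain ⟨BX, ⟨eX⟩⟩ := DerivedCategory.exists_iso_singleFunctor_obj_of_isGE_of_isLE X m
    obtain ⟨BY, ⟨eY⟩⟩ := DerivedCategory.exists_iso_singleFunctor_obj_of_isGE_of_isLE Y m
    let cI := DerivedCategory.singleFunctorCompHomologyFunctorIso A m
    let ψ : BX ⟶ BY := cI.inv.app BX ≫ (Hd m).map eX.inv ≫ φ ≫ (Hd m).map eY.hom ≫ cI.hom.app BY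
    refine ⟨eX.hom ≫ (DerivedCategory.singleFunctor A m).map ψ ≫ eY.inv, ?_⟩
    have := cI.hom.naturality ψ
    simp only [Functor.comp_map, Functor.id_map] at this
    have h2 : (Hd m).map ((DerivedCategory.singleFunctor A m).map ψ) =
        cI.hom.app BX ≫ ψ ≫ cI.inv.app BY := by
      rw [← reassoc_of% this, Iso.hom_inv_id_app]
      exact (Category.comp_id _).symm
    show (Hd m).map (eX.hom ≫ (DerivedCategory.singleFunctor A m).map ψ ≫ eY.inv) = φ
    rw [Functor.map_comp, Functor.map_comp, h2]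
    simp [ψ, ← Functor.map_comp_assoc, ← Functor.map_comp]

/-- Essential constancy of a system concentrated in one degree. -/
theorem single_degree (X : PS (DerivedCategory A)) (m : ℤ) (hle : ∀ n : ℕ, (X.obj (op n)).IsLE m)
    (hge : ∀ n : ℕ, (X.obj (op n)).IsGE m) {B : A}
    (c : (Functor.const ℕᵒᵖ).obj B ⟶ X ⋙ Hd m) (hc : DerCA.IsEssConstant (X ⋙ Hd m) B c) :
    ∃ (L : DerivedCategory A) (c : (Functor.const ℕᵒᵖ).obj L ⟶ X), DerCA.IsEssConstant X L c := by
  let L := (DerivedCategory.singleFunctor A m).obj B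
  let e : (Hd m).obj L ≅ B := (DerivedCategory.singleFunctorCompHomologyFunctorIso A m).app B
  haveI : ∀ n, (X.obj n).IsLE m := fun n => hle n.unop
  haveI : ∀ n, (X.obj n).IsGE m := fun n => hge n.unop
  have hl : ∀ n, ∃ γ : L ⟶ X.obj n, (Hd m).map γ = e.hom ≫ c.app n := fun n =>
    (bijective_map m).2 _
  choose γ hγ using hl
  have nat : ∀ ⦃p q : ℕᵒᵖ⦄ (φ : p ⟶ q), γ p ≫ X.map φ = γ q := fun p q φ => by
    apply (bijective_map m).1
    have := c.naturality φ
    simp only [Functor.const_obj_map, Functor.comp_map] at this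
    show (Hd m).map _ = (Hd m).map _
    rw [Functor.map_comp, hγ, hγ, Category.assoc, ← this]
    exact congrArg (e.hom ≫ ·) (Category.id_comp _)
  obtain ⟨i, s, hs, hfac⟩ := hc
  obtain ⟨σ, hσ⟩ := (bijective_map (X := X.obj (op i)) (Y := L) m).2 (s ≫ e.inv)
  replace hσ : (Hd m).map σ = s ≫ e.inv := hσ
  refine ⟨L, { app := γ, naturality := fun p q φ => ?_ }, i, σ, ?_, fun j => ?_⟩
  · exact (Category.id_comp _).trans (nat φ).symm
  · show γ (op i) ≫ σ = 𝟙 L
    apply (bijective_map m).1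
    show (Hd m).map (γ (op i) ≫ σ) = (Hd m).map (𝟙 L)
    rw [Functor.map_comp, hγ, hσ, CategoryTheory.Functor.map_id, Category.assoc]
    exact (congrArg (e.hom ≫ ·) (((reassoc_of% hs) e.inv).trans (Category.id_comp _))).trans e.hom_inv_id
  · obtain ⟨k, hi, hj, hk⟩ := hfac j
    refine ⟨k, hi, hj, (bijective_map m).1 ?_⟩
    show (Hd m).map _ = (Hd m).map (tr X hi ≫ σ ≫ γ (op j))
    rw [Functor.map_comp, Functor.map_comp, hσ, hγ, Category.assoc, e.inv_hom_id_assoc]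
    exact hk

theorem of_iso {C : Type*} [Category C] {X X' : PS C} (e : X ≅ X') {B : C}
    (c : (Functor.const ℕᵒᵖ).obj B ⟶ X) (h : DerCA.IsEssConstant X B c) :
    ∃ c' : (Functor.const ℕᵒᵖ).obj B ⟶ X', DerCA.IsEssConstant X' B c' := by
  obtain ⟨i, s, hs, hfac⟩ := h
  refine ⟨c ≫ e.hom, i, e.inv.app _ ≫ s, by simp [hs], fun j => ?_⟩
  obtain ⟨k, hi, hj, hk⟩ := hfac j
  refine ⟨k, hi, hj, ?_⟩
  rw [← cancel_epi (e.hom.app (op k)), ← tr_nat e.hom hj, ← tr_nat_assoc e.hom hi, hk]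
  simp

/-- Essential constancy is detected on cohomology. -/
theorem essConst_aux (a : ℤ) (j : ℕ) : ∀ (X : PS (DerivedCategory A)),
    (∀ (n : ℕ) (i : ℤ), i < a ∨ a + j ≤ i → IsZero ((Hd i).obj (X.obj (op n)))) →
    (∀ i : ℤ, a ≤ i → i < a + j → ∃ (B : A) (c : (Functor.const ℕᵒᵖ).obj B ⟶ X ⋙ Hd i),
      DerCA.IsEssConstant (X ⋙ Hd i) B c) →
    ∃ (L : DerivedCategory A) (c : (Functor.const ℕᵒᵖ).obj L ⟶ X), DerCA.IsEssConstant X L c := by
  induction j with
  | zero =>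
    intro X hz _
    have hX : ∀ n : ℕ, IsZero (X.obj (op n)) := fun n => by
      haveI : (X.obj (op n)).IsLE (a - 1) :=
        (DerivedCategory.isLE_iff _ _).2 fun i hi => hz n i (Or.inr (by lia))
      haveI : (X.obj (op n)).IsGE a :=
        (DerivedCategory.isGE_iff _ _).2 fun i hi => hz n i (Or.inl hi)
      exact t.isZero _ (a - 1) a (by lia)
    exact ⟨0, 0, 0, 0, (isZero_zero _).eq_of_src _ _,
      fun j => ⟨j, Nat.zero_le _, le_rfl, (hX j).eq_of_src _ _⟩⟩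
  | succ j ih =>
    intro X hz hec
    let n : ℤ := a + j
    obtain ⟨L₁, c₁, hc₁⟩ : ∃ (L : DerivedCategory A) (c : (Functor.const ℕᵒᵖ).obj L ⟶ X ⋙ t.truncLT n),
        DerCA.IsEssConstant (X ⋙ t.truncLT n) L c := by
      refine ih _ (fun k i hi => ?_) (fun i hai hin => ?_)
      · rcases hi with hi | hi
        · haveI := isIso_map_truncLTι (X.obj (op k)) n i (by lia)
          exact (hz k i (Or.inl hi)).of_iso (asIso ((Hd i).map ((t.truncLTι n).app (X.obj (op k)))))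
        · exact DerivedCategory.isZero_of_isLE ((t.truncLT n).obj (X.obj (op k))) (n - 1) i (by lia)
      · obtain ⟨B, c, hc⟩ := hec i hai (by lia)
        let η : (X ⋙ t.truncLT n) ⋙ Hd i ⟶ X ⋙ Hd i :=
          Functor.whiskerRight (Functor.whiskerLeft X (t.truncLTι n)) (Hd i)
        haveI : ∀ k, IsIso (η.app k) := fun k => isIso_map_truncLTι (X.obj k) n i (by lia)
        haveI : IsIso η := NatIso.isIso_of_isIso_app η
        exact ⟨B, of_iso (asIso η).symm c hc⟩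
    obtain ⟨L₃, c₃, hc₃⟩ : ∃ (L : DerivedCategory A) (c : (Functor.const ℕᵒᵖ).obj L ⟶ X ⋙ t.truncGE n),
        DerCA.IsEssConstant (X ⋙ t.truncGE n) L c := by
      obtain ⟨B, c, hc⟩ := hec n (by lia) (by lia)
      let η : X ⋙ Hd n ⟶ (X ⋙ t.truncGE n) ⋙ Hd n :=
        Functor.whiskerRight (Functor.whiskerLeft X (t.truncGEπ n)) (Hd n)
      haveI : ∀ k, IsIso (η.app k) := fun k => isIso_map_truncGEπ (X.obj k) n n le_rfl
      haveI : IsIso η := NatIso.isIso_of_isIso_app η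
      obtain ⟨c', hc'⟩ := of_iso (asIso η) c hc
      refine single_degree _ n (fun k => ?_) (fun k => inferInstanceAs (t.IsGE ((t.truncGE n).obj (X.obj (op k))) n)) c' hc'
      haveI : t.IsLE (X.obj (op k)) n :=
        (DerivedCategory.isLE_iff _ _).2 fun i hi => hz k i (Or.inr (by lia))
      exact inferInstanceAs (t.IsLE ((t.truncGE n).obj (X.obj (op k))) n)
    exact EssConst.two_out_of_three (X ⋙ t.truncLT n) X (X ⋙ t.truncGE n)
      (Functor.whiskerLeft X (t.truncLTι n)) (Functor.whiskerLeft X (t.truncGEπ n))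
      (Functor.whiskerLeft X (t.truncGEδLT n)) (fun k => t.triangleLTGE_distinguished n _) c₁ hc₁ c₃ hc₃

/-- The conditions on a map between chosen cones of a levelwise map of inverse systems. -/
def Compat {X Y : PS (DerivedCategory A)} {W : ℕ → DerivedCategory A}
    (g : ∀ k, Y.obj (op k) ⟶ W k) (d : ∀ k, W k ⟶ (X.obj (op k))⟦(1 : ℤ)⟧) (n m : ℕ) (h : n ≤ m)
    (φ : W m ⟶ W n) : Prop :=
  g m ≫ φ = tr Y h ≫ g n ∧ d m ≫ (tr X h)⟦(1 : ℤ)⟧' = φ ≫ d n

section

variable {X Y : PS (DerivedCategory A)} {W : ℕ → DerivedCategory A}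
  {g : ∀ k, Y.obj (op k) ⟶ W k} {d : ∀ k, W k ⟶ (X.obj (op k))⟦(1 : ℤ)⟧}

theorem Compat.comp {n m l : ℕ} {h : n ≤ m} {h' : m ≤ l} {φ : W m ⟶ W n} {ψ : W l ⟶ W m}
    (hψ : Compat g d m l h' ψ) (hφ : Compat g d n m h φ) :
    Compat g d n l (h.trans h') (ψ ≫ φ) := by
  constructor
  · rw [reassoc_of% hψ.1, hφ.1, tr_tr_assoc]
  · rw [← tr_tr X h h', Functor.map_comp, reassoc_of% hψ.2, hφ.2, Category.assoc]

end

/-- Pro-isomorphisms are detected on cohomology. -/
theorem isProIso (X Y : PS (DerivedCategory A)) (f : X ⟶ Y) (a b : ℤ)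
    (hX : ∀ (n : ℕ) (i : ℤ), i < a ∨ b < i → IsZero ((Hd i).obj (X.obj (op n))))
    (hY : ∀ (n : ℕ) (i : ℤ), i < a ∨ b < i → IsZero ((Hd i).obj (Y.obj (op n))))
    (hH : ∀ i : ℤ, DerCA.IsProIso (Functor.whiskerRight f (Hd i))) : DerCA.IsProIso f := by
  have hc : ∀ k : ℕ, ∃ (W : DerivedCategory A) (g : Y.obj (op k) ⟶ W) (d : W ⟶ (X.obj (op k))⟦(1 : ℤ)⟧),
      Triangle.mk (f.app (op k)) g d ∈ Pretriangulated.distinguishedTriangles :=
    fun k => distinguished_cocone_triangle _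
  choose W g d hT using hc
  have hex : ∀ n m (h : n ≤ m), ∃ φ, Compat g d n m h φ := fun n m h => by
    obtain ⟨φ, h₁, h₂⟩ := complete_distinguished_triangle_morphism _ _ (hT m) (hT n) (tr X h) (tr Y h)
      (tr_nat f h).symm
    exact ⟨φ, h₁, h₂⟩
  have hWz : ∀ k i, i < a - 1 ∨ b < i → IsZero ((Hd i).obj (W k)) := fun k i hi =>
    isZero_third _ (hT k) i
      (hY k i (hi.imp (by lia) id)) (hX k (i + 1) (hi.imp (by lia) (by lia)))
  have h1 : ∀ (i : ℤ) (n : ℕ), ∃ (m : ℕ) (h : n ≤ m) (φ : W m ⟶ W n),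
      Compat g d n m h φ ∧ (Hd i).map φ = 0 := fun i n => by
    obtain ⟨m₁, h₁, b₁, -, e₁⟩ := hH i n
    obtain ⟨m₂, h₂, b₂, e₂, -⟩ := hH (i + 1) m₁
    obtain ⟨φ, hφ⟩ := hex n m₁ h₁
    obtain ⟨ψ, hψ⟩ := hex m₁ m₂ h₂
    refine ⟨m₂, h₁.trans h₂, ψ ≫ φ, hψ.comp hφ, ?_⟩
    rw [Functor.map_comp]
    replace e₁ : b₁ ≫ (Hd i).map (f.app (op n)) = (Hd i).map (tr Y h₁) := e₁
    replace e₂ : (Hd (i + 1)).map (f.app (op m₂)) ≫ b₂ = (Hd (i + 1)).map (tr X h₂) := e₂
    refine (DerivedCategory.HomologySequence.exact₃ _ (hT m₁) i (i + 1)).comp_eq_zero ?_ ?_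
    · show (Hd i).map ψ ≫ (DerivedCategory.homologyFunctor A 0).shiftMap (d m₁) i (i + 1) _ = 0
      rw [← shift_map_comp ψ, ← hψ.2, Functor.shiftMap_comp]
      show DerivedCategory.HomologySequence.δ (Triangle.mk (f.app (op m₂)) (g m₂) (d m₂)) i (i + 1) ≫
        (Hd (i + 1)).map (tr X h₂) = 0
      rw [← e₂]
      exact (reassoc_of% (DerivedCategory.HomologySequence.δ_comp _ (hT m₂) i (i + 1))) b₂ |>.trans
        zero_comp
    · show (Hd i).map (g m₁) ≫ (Hd i).map φ = 0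
      rw [← Functor.map_comp, hφ.1, Functor.map_comp, ← e₁, Category.assoc, ← Functor.map_comp,
        show f.app (op n) ≫ g n = 0 from comp_distTriang_mor_zero₁₂ _ (hT n), Functor.map_zero, comp_zero]
  have h2 : ∀ (S : Finset ℤ) (n : ℕ), ∃ (m : ℕ) (h : n ≤ m) (φ : W m ⟶ W n),
      Compat g d n m h φ ∧ ∀ i ∈ S, (Hd i).map φ = 0 := fun S => by
    induction S using Finset.induction_on with
    | empty =>
      intro n
      obtain ⟨φ, hφ⟩ := hex n n le_rfl
      exact ⟨n, le_rfl, φ, hφ, by simp⟩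
    | insert i₀ S _ ih =>
      intro n
      obtain ⟨m, h, φ, hφ, hz⟩ := ih n
      obtain ⟨l, h', ψ, hψ, hz'⟩ := h1 i₀ m
      refine ⟨l, h.trans h', ψ ≫ φ, hψ.comp hφ, fun i hi => ?_⟩
      rw [Functor.map_comp]
      rcases Finset.mem_insert.1 hi with rfl | hi
      · rw [hz', zero_comp]
      · rw [hz i hi, comp_zero]
  have h3 : ∀ n : ℕ, ∃ (m : ℕ) (h : n ≤ m) (φ : W m ⟶ W n),
      Compat g d n m h φ ∧ ∀ i, (Hd i).map φ = 0 := fun n => by
    obtain ⟨m, h, φ, hφ, hz⟩ := h2 (Finset.Icc (a - 1) b) n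
    refine ⟨m, h, φ, hφ, fun i => ?_⟩
    by_cases hi : i ∈ Finset.Icc (a - 1) b
    · exact hz i hi
    · exact (hWz m i (by simp only [Finset.mem_Icc] at hi; lia)).eq_of_src _ _
  have h4 : ∀ (j : ℕ) (n : ℕ), ∃ (m : ℕ) (h : n ≤ m) (φ : W m ⟶ W n),
      Compat g d n m h φ ∧ ∀ (T : DerivedCategory A) [T.IsLE (a - 2 + j)] (u : T ⟶ W m), u ≫ φ = 0 := by
    intro j
    induction j with
    | zero =>
      intro n
      obtain ⟨m, h, φ, hφ, hz⟩ := h3 n
      refine ⟨m, h, φ, hφ, fun T _ u => ?_⟩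
      haveI : (W n).IsGE (a - 2 + ((0 : ℕ) : ℤ)) :=
        (DerivedCategory.isGE_iff _ _).2 fun i hi => hWz n i (Or.inl (by lia))
      refine CohDerRoofs.eq_zero_of_homology_eq_zero (a - 2 + ((0 : ℕ) : ℤ)) _ ?_
      rw [Functor.map_comp, hz, comp_zero]
    | succ j ih =>
      intro n
      obtain ⟨m, h, φ, hφ, hz⟩ := ih n
      obtain ⟨l, h', ψ, hψ, hz'⟩ := h3 m
      refine ⟨l, h.trans h', ψ ≫ φ, hψ.comp hφ, fun T _ u => ?_⟩
      obtain ⟨K, ⟨e⟩⟩ : ∃ K, Nonempty (DerivedCategory.Q.obj K ≅ W m) :=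
        ⟨_, ⟨DerivedCategory.Q.objObjPreimageIso _⟩⟩
      obtain ⟨x, hx⟩ := CohDerRoofs.exists_factor_truncLE (a - 2 + ((j + 1 : ℕ) : ℤ)) K
        ((u ≫ ψ) ≫ e.inv) (by rw [Functor.map_comp, Functor.map_comp, hz', comp_zero, zero_comp])
      rw [← Category.assoc, show u ≫ ψ = x ≫ DerivedCategory.Q.map _ ≫ e.hom from by
        rw [reassoc_of% hx, e.inv_hom_id, Category.comp_id]]
      haveI : (DerivedCategory.Q.obj (K.truncLE (a - 2 + ((j + 1 : ℕ) : ℤ) - 1))).IsLE (a - 2 + (j : ℤ)) := by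
        rw [show a - 2 + ((j + 1 : ℕ) : ℤ) - 1 = a - 2 + (j : ℤ) from by push_cast; ring]
        infer_instance
      simp only [Category.assoc]
      rw [← Category.assoc (DerivedCategory.Q.map _) e.hom φ, hz _ _, comp_zero]
  have h5 : ∀ n : ℕ, ∃ (m : ℕ) (h : n ≤ m),
      tr Y h ≫ g n = 0 ∧ d m ≫ (tr X h)⟦(1 : ℤ)⟧' = 0 := fun n => by
    obtain ⟨m, h, φ, hφ, hz⟩ := h4 ((b - a + 2).toNat) n
    haveI : (W m).IsLE (a - 2 + ((b - a + 2).toNat : ℤ)) :=
      (DerivedCategory.isLE_iff _ _).2 fun i hi => hWz m i (Or.inr (by omega))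
    have h0 : φ = 0 := by rw [← Category.id_comp φ]; exact hz (W m) (𝟙 _)
    exact ⟨m, h, by rw [← hφ.1, h0, comp_zero], by rw [hφ.2, h0, zero_comp]⟩
  intro n
  obtain ⟨m, hnm, hy, -⟩ := h5 n
  obtain ⟨l, hml, -, hx⟩ := h5 m
  obtain ⟨c, hc⟩ : ∃ c : Y.obj (op m) ⟶ X.obj (op n), tr Y hnm = c ≫ f.app (op n) :=
    Triangle.coyoneda_exact₂ _ (hT n) _ hy
  obtain ⟨q, hq⟩ : ∃ q : Y.obj (op l) ⟶ X.obj (op m), tr X hml = f.app (op l) ≫ q := by
    obtain ⟨q, hq⟩ := Triangle.yoneda_exact₂ _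
      (rot_of_distTriang _ (rot_of_distTriang _ (hT l))) ((tr X hml)⟦(1 : ℤ)⟧') hx
    obtain ⟨q', rfl⟩ := (shiftFunctor (DerivedCategory A) (1 : ℤ)).map_surjective q
    refine ⟨-q', (shiftFunctor (DerivedCategory A) (1 : ℤ)).map_injective ?_⟩
    refine hq.trans ?_
    simp
  refine ⟨l, hnm.trans hml, q ≫ tr X hnm - (q ≫ f.app (op m) - tr Y hml) ≫ c, ?_, ?_⟩
  · rw [Preadditive.comp_sub, ← Category.assoc, ← hq, ← Category.assoc (f.app (op l)),
      Preadditive.comp_sub, ← Category.assoc (f.app (op l)), ← hq, tr_nat f hml, sub_self,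
      zero_comp, sub_zero, tr_tr]
  · rw [Preadditive.sub_comp, Category.assoc, tr_nat, Category.assoc, ← hc, Preadditive.sub_comp,
      Category.assoc, tr_tr]
    abel
where
  shift_map_comp {P Q : DerivedCategory A} {R : DerivedCategory A} {i k : ℤ} {hk : (1 : ℤ) + i = k}
      (ψ : P ⟶ Q) {u : Q ⟶ R⟦(1 : ℤ)⟧} :
      (Hd 0).shiftMap (ψ ≫ u) i k hk = (Hd i).map ψ ≫ (Hd 0).shiftMap u i k hk :=
    Functor.shiftMap_comp' _ _ _ _ _ _

end Groth.Agent.EssConstD
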